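import Groth.Agent.IntHomLib.Main

/-! # The scheme of homomorphisms between finite etale schemes is finite etale -/

set_option autoImplicit false
set_option linter.style.haveILetI false

universe u

open CategoryTheory CategoryTheory.Limits AlgebraicGeometry TopologicalSpace MonoidalCategory CartesianMonoidalCategory

namespace IntHom

theorem finite_etale {X : Scheme.{u}} {U V M : Over X} (hU : IsFinite U.hom ∧ Etale U.hom)
    (hV : IsFinite V.hom ∧ Etale V.hom) (ev : U ⊗ M ⟶ V)
    (huniv : ∀ (Z : Over X) (φ : U ⊗ Z ⟶ V), ∃! v : Z ⟶ M, (U ◁ v) ≫ ev = φ) :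
    IsFinite M.hom ∧ Etale M.hom := by
  obtain ⟨_, _⟩ := hU
  let W : ULift.{u} ℕ → X.Opens := fun n => ⟨U.hom.finrank ⁻¹' {n.down},
    (Scheme.Hom.isLocallyConstant_finrank U.hom).isOpen_fiber n.down⟩
  have hcov : iSup W = ⊤ := top_le_iff.mp fun x _ => Opens.mem_iSup.mpr ⟨⟨U.hom.finrank x⟩, rfl⟩
  have key : ∀ n, IsFinite (pullback.snd M.hom (W n).ι) ∧ Etale (pullback.snd M.hom (W n).ι) := by
    intro n
    have hrk : ∀ s, (pullback.snd U.hom (W n).ι).finrank s = n.down := fun s => by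
      rw [Scheme.Hom.finrank_pullback_snd]
      exact s.2
    obtain ⟨Y, ψ, σ, h1, h2, h3, h4, hs, hd, hc⟩ :=
      SplitDeg.exists_sections_deg n.down (pullback.snd U.hom (W n).ι) hrk
    haveI := h1; haveI := h2; haveI := h4
    let T : Over X := Over.mk (ψ ≫ (W n).ι)
    let e := pullbackLeftPullbackSndIso U.hom (W n).ι ψ
    have hsσ : ∀ i, (σ i ≫ e.hom) ≫ pullback.snd U.hom T.hom = 𝟙 Y := fun i => by
      show (σ i ≫ e.hom) ≫ pullback.snd U.hom (ψ ≫ (W n).ι) = 𝟙 Y
      rw [Category.assoc, pullbackLeftPullbackSndIso_hom_snd, hs]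
    let τ : Fin n.down → (T ⟶ U ⊗ T) := fun i => Over.homMk (σ i ≫ e.hom) (by
      show (σ i ≫ e.hom) ≫ pullback.fst U.hom T.hom ≫ U.hom = ψ ≫ (W n).ι
      rw [pullback.condition, ← Category.assoc, hsσ, Category.id_comp]
      rfl)
    have h := finite_etale_of_split (T := T) ⟨‹_›, ‹_›⟩ τ
      (fun i => Over.OverMorphism.ext (hsσ i))
      (fun i j a b hab => hd i j a b (e.hom.homeomorph.injective hab))
      (fun z => by
        obtain ⟨w, rfl⟩ := e.hom.homeomorph.surjective z
        obtain ⟨i, a, ha⟩ := hc w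
        exact ⟨i, a, congrArg e.hom ha⟩) hV ev huniv
    have hsnd : pullback.snd (pullback.snd M.hom (W n).ι) ψ =
        (pullbackLeftPullbackSndIso M.hom (W n).ι ψ).hom ≫ pullback.snd M.hom T.hom :=
      (pullbackLeftPullbackSndIso_hom_snd M.hom (W n).ι ψ).symm
    obtain ⟨_, _⟩ := h
    have sq : IsPullback (pullback.snd (pullback.snd M.hom (W n).ι) ψ) (pullback.fst (pullback.snd M.hom (W n).ι) ψ)
        ψ (pullback.snd M.hom (W n).ι) := (IsPullback.of_hasPullback _ ψ).flip
    refine ⟨MorphismProperty.of_isPullback_of_descendsAlong (P := @IsFinite) sq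
        (Q := @Surjective ⊓ @Flat ⊓ @LocallyOfFinitePresentation) ⟨⟨h4, inferInstance⟩, inferInstance⟩ ?_,
      MorphismProperty.of_isPullback_of_descendsAlong (P := @Etale) sq
        (Q := @Surjective ⊓ @Flat ⊓ @LocallyOfFinitePresentation) ⟨⟨h4, inferInstance⟩, inferInstance⟩ ?_⟩ <;>
      (rw [hsnd]; infer_instance)
  refine ⟨IsZariskiLocalAtTarget.of_iSup_eq_top (P := @IsFinite) W hcov fun n => ?_,
    IsZariskiLocalAtTarget.of_iSup_eq_top (P := @Etale) W hcov fun n => ?_⟩ <;>
  · rw [← (isPullback_morphismRestrict M.hom (W n)).flip.isoPullback_hom_snd]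
    haveI := (key n).1
    haveI := (key n).2
    infer_instance

end IntHom
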