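import Groth.Agent.SplitDegLib.Main

/-! # Internal homs of finite etale schemes: the split case -/

set_option autoImplicit false
set_option linter.style.haveILetI false

universe u

open CategoryTheory CategoryTheory.Limits AlgebraicGeometry TopologicalSpace MonoidalCategory CartesianMonoidalCategory

namespace IntHom

noncomputable section

variable {X : Scheme.{u}}

/-- `A^k × T`. -/
def pw (A T : Over X) : ℕ → Over X
  | 0 => T
  | k + 1 => A ⊗ pw A T k

/-- The projection to `T`. -/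
def pwT (A T : Over X) : (k : ℕ) → (pw A T k ⟶ T)
  | 0 => 𝟙 T
  | k + 1 => snd A (pw A T k) ≫ pwT A T k

/-- The coordinates. -/
def pr (A T : Over X) : (k : ℕ) → Fin k → (pw A T k ⟶ A)
  | 0 => fun i => i.elim0
  | k + 1 => Fin.cases (fst A (pw A T k)) (fun i => snd A (pw A T k) ≫ pr A T k i)

theorem pw_exists (A T : Over X) : ∀ (k : ℕ) {Z : Over X} (q : Z ⟶ T) (a : Fin k → (Z ⟶ A)),
    ∃ u : Z ⟶ pw A T k, u ≫ pwT A T k = q ∧ ∀ i, u ≫ pr A T k i = a i
  | 0, Z, q, a => ⟨q, Category.comp_id q, fun i => i.elim0⟩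
  | k + 1, Z, q, a => by
    obtain ⟨v, hv, hv'⟩ := pw_exists A T k q fun i => a i.succ
    refine ⟨lift (a 0) v, ?_, fun i => ?_⟩
    · show lift (a 0) v ≫ snd A (pw A T k) ≫ pwT A T k = q
      rw [lift_snd_assoc, hv]
    · refine Fin.cases ?_ (fun i => ?_) i
      · show lift (a 0) v ≫ fst A (pw A T k) = a 0
        rw [lift_fst]
      · show lift (a 0) v ≫ snd A (pw A T k) ≫ pr A T k i = a i.succ
        rw [lift_snd_assoc, hv']

theorem pw_ext (A T : Over X) : ∀ (k : ℕ) {Z : Over X} (u v : Z ⟶ pw A T k),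
    u ≫ pwT A T k = v ≫ pwT A T k → (∀ i, u ≫ pr A T k i = v ≫ pr A T k i) → u = v
  | 0, Z, u, v, h, _ => (Category.comp_id (u : Z ⟶ T)).symm.trans (h.trans (Category.comp_id (v : Z ⟶ T)))
  | k + 1, Z, u, v, h, h' => by
    refine CartesianMonoidalCategory.hom_ext (u : Z ⟶ A ⊗ pw A T k) v (h' 0)
      (pw_ext A T k _ _ ?_ fun i => ?_)
    · rw [Category.assoc, Category.assoc]
      exact h
    · rw [Category.assoc, Category.assoc]
      exact h' i.succ

theorem pwT_prop (A T : Over X) (hA : IsFinite A.hom ∧ Etale A.hom) :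
    ∀ k, IsFinite (pwT A T k).left ∧ Etale (pwT A T k).left
  | 0 => by
    show IsFinite (𝟙 T.left) ∧ Etale (𝟙 T.left)
    exact ⟨inferInstance, inferInstance⟩
  | k + 1 => by
    obtain ⟨_, _⟩ := pwT_prop A T hA k
    obtain ⟨_, _⟩ := hA
    show IsFinite (pullback.snd A.hom (pw A T k).hom ≫ (pwT A T k).left) ∧
      Etale (pullback.snd A.hom (pw A T k).hom ≫ (pwT A T k).left)
    exact ⟨inferInstance, inferInstance⟩

variable {U T : Over X}

/-- The pullback of a section of `U × T → T` along `q : Z → T`. -/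
def sect {Z : Over X} (q : Z ⟶ T) (s : T ⟶ U ⊗ T) : Z ⟶ U ⊗ Z := lift (q ≫ s ≫ fst U T) (𝟙 Z)

theorem sect_map {Z : Over X} (q : Z ⟶ T) (s : T ⟶ U ⊗ T) (hs : s ≫ snd U T = 𝟙 T) :
    sect q s ≫ U ◁ q = q ≫ s :=
  CartesianMonoidalCategory.hom_ext _ _ (by simp [sect]) (by simp [sect, hs])

theorem sect_natural {Z Z' : Over X} (h : Z' ⟶ Z) (q : Z ⟶ T) (s : T ⟶ U ⊗ T) :
    sect (h ≫ q) s ≫ U ◁ h = h ≫ sect q s :=
  CartesianMonoidalCategory.hom_ext _ _ (by simp [sect]) (by simp [sect])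

variable (hU : IsFinite U.hom ∧ Etale U.hom) {n : ℕ} (σ : Fin n → (T ⟶ U ⊗ T))
  (hs : ∀ i, σ i ≫ snd U T = 𝟙 T) (hd : ∀ i j a b, (σ i).left a = (σ j).left b → i = j)
  (hc : ∀ z, ∃ i, z ∈ Set.range (σ i).left)

include hU hs hd hc in
theorem sect_colimit {Z : Over X} (q : Z ⟶ T) :
    Nonempty (IsColimit (Cofan.mk (U ⊗ Z).left fun i => (sect q (σ i)).left)) := by
  obtain ⟨_, _⟩ := hU
  have hsec : ∀ i, (sect q (σ i)).left ≫ pullback.snd U.hom Z.hom = 𝟙 Z.left := fun i => by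
    have h := congrArg CommaMorphism.left
      (show sect q (σ i) ≫ snd U Z = 𝟙 Z from lift_snd _ _)
    exact h
  haveI : ∀ i, IsOpenImmersion (sect q (σ i)).left := fun i =>
    (SplitCover.section_props (pullback.snd U.hom Z.hom) _ (hsec i)).1
  have hsq : IsPullback (U ◁ q).left (pullback.snd U.hom Z.hom) (pullback.snd U.hom T.hom) q.left :=
    IsPullback.of_right (by
      rw [Over.whiskerLeft_left_fst, Over.w q]
      exact IsPullback.of_hasPullback U.hom Z.hom) (Over.whiskerLeft_left_snd q)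
      (IsPullback.of_hasPullback U.hom T.hom)
  have hmap : ∀ i, (sect q (σ i)).left ≫ (U ◁ q).left = q.left ≫ (σ i).left := fun i =>
    congrArg CommaMorphism.left (sect_map q (σ i) (hs i))
  refine nonempty_isColimit_cofanMk_of (fun i => (sect q (σ i)).left) (top_le_iff.mp fun w _ => ?_) ?_
  · obtain ⟨i, a, ha⟩ := hc ((U ◁ q).left w)
    have hsec' : (σ i).left ≫ pullback.snd U.hom T.hom = 𝟙 T.left := congrArg CommaMorphism.left (hs i)
    have h1 : IsPullback q.left (sect q (σ i)).left (σ i).left (U ◁ q).left :=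
      IsPullback.of_bot (by rw [hsec, hsec']; exact IsPullback.of_vert_isIso ⟨by simp⟩) (hmap i).symm hsq
    obtain ⟨z, -, hz⟩ := Scheme.exists_preimage_of_isPullback h1 a w ha
    exact Opens.mem_iSup.mpr ⟨i, ⟨z, hz⟩⟩
  · intro i j hij
    refine disjoint_iff_inf_le.mpr fun w hw => ?_
    obtain ⟨⟨a, ha⟩, ⟨b, hb⟩⟩ := hw
    have h' := congrArg (U ◁ q).left (ha.trans hb.symm)
    rw [← Scheme.Hom.comp_apply, ← Scheme.Hom.comp_apply, hmap, hmap, Scheme.Hom.comp_apply,
      Scheme.Hom.comp_apply] at h'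
    exact hij (hd i j _ _ h')

include hU hs hd hc in
theorem sect_ext {Z : Over X} (q : Z ⟶ T) {Y : Over X} (φ ψ : U ⊗ Z ⟶ Y)
    (h : ∀ i, sect q (σ i) ≫ φ = sect q (σ i) ≫ ψ) : φ = ψ := by
  obtain ⟨hcol⟩ := sect_colimit hU σ hs hd hc q
  exact Over.OverMorphism.ext (Cofan.IsColimit.hom_ext hcol _ _ fun i => congrArg CommaMorphism.left (h i))

include hU hs hd hc in
theorem sect_desc {Z : Over X} (q : Z ⟶ T) {Y : Over X} (a : Fin n → (Z ⟶ Y)) :
    ∃ φ : U ⊗ Z ⟶ Y, ∀ i, sect q (σ i) ≫ φ = a i := by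
  obtain ⟨hcol⟩ := sect_colimit hU σ hs hd hc q
  refine ⟨Over.homMk (Cofan.IsColimit.desc hcol fun i => (a i).left) ?_, fun i => ?_⟩
  · refine Cofan.IsColimit.hom_ext hcol _ _ fun i => ?_
    rw [← Category.assoc, Cofan.IsColimit.fac, Over.w (a i)]
    exact (Over.w (sect q (σ i))).symm
  · exact Over.OverMorphism.ext (Cofan.IsColimit.fac hcol _ i)

include hU hs hd hc in
/-- After splitting `U`, the scheme of homomorphisms into `V` is a power of `V`. -/
theorem finite_etale_of_split {V M : Over X} (hV : IsFinite V.hom ∧ Etale V.hom) (ev : U ⊗ M ⟶ V)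
    (huniv : ∀ (Z : Over X) (φ : U ⊗ Z ⟶ V), ∃! v : Z ⟶ M, (U ◁ v) ≫ ev = φ) :
    IsFinite (pullback.snd M.hom T.hom) ∧ Etale (pullback.snd M.hom T.hom) := by
  obtain ⟨h, hh, hh'⟩ := pw_exists V T n (snd M T) fun i => sect (snd M T) (σ i) ≫ U ◁ fst M T ≫ ev
  obtain ⟨φ, hφ⟩ := sect_desc hU σ hs hd hc (pwT V T n) (pr V T n)
  obtain ⟨v, hv, -⟩ := huniv _ φ
  let k : pw V T n ⟶ M ⊗ T := lift v (pwT V T n)
  have hk : k ≫ h = 𝟙 _ := by
    refine pw_ext V T n _ _ (by rw [Category.assoc, hh, Category.id_comp, lift_snd]) fun i => ?_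
    rw [Category.assoc, hh', Category.id_comp, ← reassoc_of% (sect_natural k (snd M T) (σ i)),
      lift_snd, ← whiskerLeft_comp_assoc, lift_fst, hv, hφ]
  have hh2 : h ≫ k = 𝟙 _ := by
    refine CartesianMonoidalCategory.hom_ext _ _ ?_ (by rw [Category.assoc, lift_snd, hh, Category.id_comp])
    rw [Category.assoc, lift_fst, Category.id_comp]
    refine (huniv _ (U ◁ fst M T ≫ ev)).unique ?_ rfl
    rw [whiskerLeft_comp_assoc, hv]
    refine sect_ext hU σ hs hd hc (snd M T) _ _ fun i => ?_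
    have hnat := sect_natural h (pwT V T n) (σ i)
    rw [hh] at hnat
    rw [reassoc_of% hnat, hφ, hh']
  haveI : IsIso h.left := ⟨k.left, congrArg CommaMorphism.left hh2, congrArg CommaMorphism.left hk⟩
  obtain ⟨_, _⟩ := pwT_prop V T hV n
  have e : pullback.snd M.hom T.hom = h.left ≫ (pwT V T n).left := (congrArg CommaMorphism.left hh).symm
  rw [e]
  exact ⟨inferInstance, inferInstance⟩

end

end IntHom
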